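import Mathlib

/-!
The subgroup of `Hom(ℤ^r, ℤ/δ)` generated by `x ↦ b(d, x) + (1 - g) b(x, x)`.
-/

set_option autoImplicit false

namespace Groth.LatticeWeight

/-- The generating set. -/
def genSet (r δ : ℕ) (g : ℤ) (d : Fin r → ℤ) : Set ((Fin r → ℤ) →+ ZMod δ) :=
  {φ | ∃ b : LinearMap.BilinForm ℤ (Fin r → ℤ), b.IsSymm ∧
    ∀ x, φ x = ((b d x + (1 - g) * b x x : ℤ) : ZMod δ)}

theorem cast_eq_mul {δ : ℕ} {c : ℤ} {y : ℤ} {m : ℕ} (hm : (m : ℤ) = Int.gcd δ c) (h : (m : ℤ) ∣ y) :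
    (y : ZMod δ) ∈ AddSubgroup.zmultiples (c : ZMod δ) := by
  obtain ⟨t, rfl⟩ := h
  rw [AddSubgroup.mem_zmultiples_iff]
  refine ⟨t * Int.gcdB δ c, ?_⟩
  rw [hm, Int.gcd_eq_gcd_ab]
  push_cast
  rw [ZMod.natCast_self, zsmul_eq_mul]
  push_cast
  ring

theorem zmultiples_eq {δ : ℕ} {c : ℤ} {m : ℕ} (hm : (m : ℤ) = Int.gcd δ c) :
    AddSubgroup.zmultiples (c : ZMod δ) = AddSubgroup.zmultiples (m : ZMod δ) := by
  apply le_antisymm <;> rw [AddSubgroup.zmultiples_le]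
  · obtain ⟨t, ht⟩ : (m : ℤ) ∣ c := hm ▸ Int.gcd_dvd_right (δ : ℤ) c
    exact AddSubgroup.mem_zmultiples_iff.2 ⟨t, by rw [ht, zsmul_eq_mul]; push_cast; ring⟩
  · exact_mod_cast cast_eq_mul hm dvd_rfl

/-- The kernel of the reduction `ℤ/δ → ℤ/gcd(δ,c)`. -/
theorem castHom_eq_zero_iff {δ : ℕ} (c : ℤ) (x : ZMod δ) :
    ZMod.castHom (Int.natCast_dvd_natCast.1 (Int.gcd_dvd_left (δ : ℤ) c)) (ZMod (Int.gcd δ c)) x = 0 ↔
      x ∈ AddSubgroup.zmultiples (c : ZMod δ) := by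
  obtain ⟨a, rfl⟩ := ZMod.intCast_surjective x
  rw [map_intCast, ZMod.intCast_zmod_eq_zero_iff_dvd]
  refine ⟨fun h => cast_eq_mul rfl h, fun h => ?_⟩
  obtain ⟨t, ht⟩ := AddSubgroup.mem_zmultiples_iff.1 h
  rw [zsmul_eq_mul, ← Int.cast_mul, ZMod.intCast_eq_intCast_iff_dvd_sub] at ht
  have h1 := (Int.gcd_dvd_left (δ : ℤ) c).trans ht
  have h2 : ((Int.gcd δ c : ℕ) : ℤ) ∣ t * c := (Int.gcd_dvd_right _ _).mul_left t
  simpa using dvd_add h1 h2

section Sub

variable (δ n : ℕ) (c₀ c₁ : ℤ)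

/-- The product subgroup. -/
def box : AddSubgroup (Fin (n + 1) → ZMod δ) where
  carrier := {v | v 0 ∈ AddSubgroup.zmultiples (c₀ : ZMod δ) ∧
    ∀ i : Fin n, v i.succ ∈ AddSubgroup.zmultiples (c₁ : ZMod δ)}
  zero_mem' := ⟨zero_mem _, fun _ => zero_mem _⟩
  add_mem' h h' := ⟨add_mem h.1 h'.1, fun i => add_mem (h.2 i) (h'.2 i)⟩
  neg_mem' h := ⟨neg_mem h.1, fun i => neg_mem (h.2 i)⟩

theorem box_quot :
    Nonempty (((Fin (n + 1) → ZMod δ) ⧸ box δ n c₀ c₁) ≃+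
      (ZMod (Int.gcd δ c₀) × (Fin n → ZMod (Int.gcd δ c₁)))) := by
  let p₀ := (ZMod.castHom (Int.natCast_dvd_natCast.1 (Int.gcd_dvd_left (δ : ℤ) c₀)) (ZMod (Int.gcd δ c₀))).toAddMonoidHom
  let p₁ := (ZMod.castHom (Int.natCast_dvd_natCast.1 (Int.gcd_dvd_left (δ : ℤ) c₁)) (ZMod (Int.gcd δ c₁))).toAddMonoidHom
  let π : (Fin (n + 1) → ZMod δ) →+ ZMod (Int.gcd δ c₀) × (Fin n → ZMod (Int.gcd δ c₁)) :=
    AddMonoidHom.mk' (fun v => (p₀ (v 0), fun i => p₁ (v i.succ))) fun v w => by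
      refine Prod.ext ?_ (funext fun i => ?_)
      · exact map_add p₀ _ _
      · exact map_add p₁ _ _
  have hker : π.ker = box δ n c₀ c₁ := by
    ext v
    simp only [AddMonoidHom.mem_ker, π, AddMonoidHom.mk'_apply, Prod.ext_iff, funext_iff, Prod.fst_zero,
      Prod.snd_zero, Pi.zero_apply]
    exact and_congr (castHom_eq_zero_iff c₀ _) (forall_congr' fun i => castHom_eq_zero_iff c₁ _)
  have hsurj : Function.Surjective π := by
    rintro ⟨a, b⟩
    obtain ⟨a, rfl⟩ := ZMod.intCast_surjective a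
    choose b' hb' using fun i => ZMod.intCast_surjective (b i)
    refine ⟨Fin.cons (a : ZMod δ) fun i => (b' i : ZMod δ), ?_⟩
    refine Prod.ext ?_ (funext fun i => ?_)
    · simp [π, p₀, AddMonoidHom.mk'_apply]
      exact map_intCast (ZMod.castHom (Int.natCast_dvd_natCast.1 (Int.gcd_dvd_left (δ : ℤ) c₀)) (ZMod (Int.gcd δ c₀))) a
    · simp [π, p₁, AddMonoidHom.mk'_apply]
      exact (map_intCast (ZMod.castHom (Int.natCast_dvd_natCast.1 (Int.gcd_dvd_left (δ : ℤ) c₁)) (ZMod (Int.gcd δ c₁))) (b' i)).trans (hb' i)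
  exact ⟨(QuotientAddGroup.quotientAddEquivOfEq hker.symm).trans
    (QuotientAddGroup.quotientKerEquivOfSurjective π hsurj)⟩

theorem box_iso (hδ : 0 < δ) :
    Nonempty (box δ n c₀ c₁ ≃+ (ZMod (δ / Int.gcd δ c₀) × (Fin n → ZMod (δ / Int.gcd δ c₁)))) := by
  have key : ∀ c : ℤ, ∃ ι : ZMod (δ / Int.gcd δ c) →+ ZMod δ, Function.Injective ι ∧
      ∀ x, x ∈ AddSubgroup.zmultiples (c : ZMod δ) ↔ ∃ y, ι y = x := by
    intro c
    set m := Int.gcd δ c
    have hdvd : m ∣ δ := Int.natCast_dvd_natCast.1 (Int.gcd_dvd_left (δ : ℤ) c)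
    let f : ℤ →+ ZMod δ := zmultiplesHom _ (m : ZMod δ)
    have hf : f ((δ / m : ℕ) : ℤ) = 0 := by
      show ((δ / m : ℕ) : ℤ) • (m : ZMod δ) = 0
      rw [natCast_zsmul, nsmul_eq_mul, ← Nat.cast_mul, Nat.div_mul_cancel hdvd, ZMod.natCast_self]
    refine ⟨ZMod.lift _ ⟨f, hf⟩, ?_, fun x => ?_⟩
    · rw [ZMod.lift_injective]
      intro k hk
      have hk' : (δ : ℤ) ∣ k * m := by
        rw [← ZMod.intCast_zmod_eq_zero_iff_dvd]
        simpa [f, zsmul_eq_mul] using hk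
      rw [ZMod.intCast_zmod_eq_zero_iff_dvd]
      have hm0 : (m : ℤ) ≠ 0 := by
        intro h
        simp only [m, Nat.cast_eq_zero, Int.gcd_eq_zero_iff] at h
        omega
      refine (mul_dvd_mul_iff_right hm0).1 ?_
      rwa [← Nat.cast_mul, Nat.div_mul_cancel hdvd]
    · rw [zmultiples_eq (δ := δ) (c := c) (m := m) rfl, AddSubgroup.mem_zmultiples_iff]
      constructor
      · rintro ⟨k, rfl⟩
        exact ⟨(k : ZMod _), by rw [ZMod.lift_coe]; rfl⟩
      · rintro ⟨y, rfl⟩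
        obtain ⟨k, rfl⟩ := ZMod.intCast_surjective y
        exact ⟨k, by rw [ZMod.lift_coe]; rfl⟩
  obtain ⟨ι₀, hi₀, hr₀⟩ := key c₀
  obtain ⟨ι₁, hi₁, hr₁⟩ := key c₁
  let Φ : ZMod (δ / Int.gcd δ c₀) × (Fin n → ZMod (δ / Int.gcd δ c₁)) →+ box δ n c₀ c₁ :=
    AddMonoidHom.mk' (fun p => ⟨Fin.cons (ι₀ p.1) fun i => ι₁ (p.2 i),
        (hr₀ _).2 ⟨p.1, by simp⟩, fun i => (hr₁ _).2 ⟨p.2 i, by simp⟩⟩)
      fun p q => by
        refine Subtype.ext (funext fun i => ?_)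
        refine Fin.cases ?_ (fun j => ?_) i <;> simp
  have hinj : Function.Injective Φ := fun p q h => by
    have h' := congrArg Subtype.val h
    refine Prod.ext (hi₀ ?_) (funext fun i => hi₁ ?_)
    · simpa [Φ] using congrFun h' 0
    · simpa [Φ] using congrFun h' i.succ
  have hsurj : Function.Surjective Φ := by
    rintro ⟨v, h0, h1⟩
    obtain ⟨a, ha⟩ := (hr₀ _).1 h0
    choose b hb using fun i => (hr₁ _).1 (h1 i)
    refine ⟨(a, b), Subtype.ext (funext fun i => ?_)⟩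
    refine Fin.cases ?_ (fun j => ?_) i <;> simp [Φ, ha, hb]
  exact ⟨(AddEquiv.ofBijective Φ ⟨hinj, hsurj⟩).symm⟩

end Sub

section Normal

/-- Move `d` to a multiple of the first basis vector. -/
theorem exists_normal (n : ℕ) (d : Fin (n + 1) → ℤ) :
    ∃ e : (Fin (n + 1) → ℤ) ≃ₗ[ℤ] (Fin (n + 1) → ℤ), e d = Pi.single 0 (Finset.univ.gcd d) := by
  classical
  rcases eq_or_ne d 0 with rfl | hd
  · refine ⟨LinearEquiv.refl ℤ _, ?_⟩
    have : Finset.univ.gcd (0 : Fin (n + 1) → ℤ) = 0 := Finset.gcd_eq_zero_iff.2 fun _ _ => rfl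
    simp [this]
  obtain ⟨m, ⟨bM, bN, f, a, snf⟩⟩ := Submodule.smithNormalForm (Pi.basisFun ℤ (Fin (n + 1))) (ℤ ∙ d)
  have hm : m = 1 := by
    have h1 := Module.finrank_eq_card_basis bN
    rw [← (LinearEquiv.toSpanNonzeroSingleton ℤ _ d hd).finrank_eq, Module.finrank_self, Fintype.card_fin] at h1
    exact h1.symm
  subst hm
  obtain ⟨k, hk⟩ : ∃ k : ℤ, d = k • bM (f 0) := by
    refine ⟨bN.repr ⟨d, Submodule.mem_span_singleton_self d⟩ 0 * a 0, ?_⟩
    have h1 := congrArg Subtype.val (bN.sum_repr ⟨d, Submodule.mem_span_singleton_self d⟩)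
    simp only [Fin.sum_univ_one, Submodule.coe_smul, snf, smul_smul] at h1
    exact h1.symm
  let e₀ : (Fin (n + 1) → ℤ) ≃ₗ[ℤ] (Fin (n + 1) → ℤ) :=
    bM.equiv (Pi.basisFun ℤ (Fin (n + 1))) (Equiv.swap (f 0) 0)
  have he₀ : e₀ d = Pi.single 0 k := by
    rw [hk, map_smul, Module.Basis.equiv_apply, Equiv.swap_apply_left, Pi.basisFun_apply,
      ← Pi.single_smul, smul_eq_mul, mul_one]
  -- the gcd is invariant
  have hgcd : ∀ (e : (Fin (n + 1) → ℤ) ≃ₗ[ℤ] (Fin (n + 1) → ℤ)) (x : Fin (n + 1) → ℤ),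
      Finset.univ.gcd x ∣ Finset.univ.gcd (e x) := by
    intro e x
    refine Finset.dvd_gcd fun i _ => ?_
    have : e x i = ∑ j, x j * e (Pi.single j 1) i := by
      conv_lhs => rw [← (Pi.basisFun ℤ (Fin (n + 1))).sum_repr x]
      rw [map_sum, Finset.sum_apply]
      refine Finset.sum_congr rfl fun j _ => ?_
      rw [map_smul, Pi.basisFun_repr, Pi.basisFun_apply, Pi.smul_apply, smul_eq_mul]
    rw [this]
    exact Finset.dvd_sum fun j _ => (Finset.gcd_dvd (Finset.mem_univ j)).mul_right _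
  have hD : Associated (Finset.univ.gcd d) k := by
    have h2 : Associated (Finset.univ.gcd (Pi.single (0 : Fin (n + 1)) k)) k := by
      refine associated_of_dvd_dvd ?_ (Finset.dvd_gcd fun i _ => ?_)
      · simpa using Finset.gcd_dvd (f := Pi.single (0 : Fin (n + 1)) k) (Finset.mem_univ (0 : Fin (n + 1)))
      · rcases eq_or_ne i 0 with rfl | hi <;> simp [*]
    refine Associated.trans ?_ h2
    refine associated_of_dvd_dvd (he₀ ▸ hgcd e₀ d) ?_
    have := hgcd e₀.symm (e₀ d)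
    rwa [LinearEquiv.symm_apply_apply, he₀] at this
  obtain ⟨u, hu⟩ := hD
  refine ⟨e₀.trans (LinearEquiv.smulOfUnit u⁻¹), ?_⟩
  rw [LinearEquiv.trans_apply, he₀, ← hu]
  funext i
  show ((u⁻¹ : ℤˣ) : ℤ) • (Pi.single 0 (Finset.univ.gcd d * (u : ℤ)) : Fin (n + 1) → ℤ) i = _
  rcases eq_or_ne i 0 with rfl | hi
  · simp only [Pi.single_eq_same, smul_eq_mul]
    rw [mul_left_comm, ← Units.val_mul, inv_mul_cancel, Units.val_one, mul_one]
  · simp [hi]

/-- Transporting the generating set. -/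
theorem image_genSet {r δ : ℕ} {g : ℤ} (e : (Fin r → ℤ) ≃ₗ[ℤ] (Fin r → ℤ)) (d : Fin r → ℤ) :
    (fun φ : (Fin r → ℤ) →+ ZMod δ => φ.comp e.symm.toLinearMap.toAddMonoidHom) '' genSet r δ g d =
      genSet r δ g (e d) := by
  ext φ
  constructor
  · rintro ⟨ψ, ⟨b, hb, h⟩, rfl⟩
    refine ⟨b.comp e.symm.toLinearMap e.symm.toLinearMap, ⟨fun x y => hb.eq _ _⟩, fun x => ?_⟩
    simp [h]
  · rintro ⟨b, hb, h⟩
    refine ⟨φ.comp e.toLinearMap.toAddMonoidHom, ⟨b.comp e.toLinearMap e.toLinearMap, ⟨fun x y => hb.eq _ _⟩,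
      fun x => ?_⟩, ?_⟩
    · simp [h]
    · ext x; simp

end Normal

variable (n δ : ℕ) (g : ℤ) (d : Fin (n + 1) → ℤ)

/-- The closure of the generating set is a box in suitable coordinates. -/
theorem exists_coord (hδ : (δ : ℤ) ∣ 2 * (g - 1)) :
    ∃ Ψ : ((Fin (n + 1) → ℤ) →+ ZMod δ) ≃+ (Fin (n + 1) → ZMod δ),
      (AddSubgroup.closure (genSet (n + 1) δ g d)).map Ψ.toAddMonoidHom =
        box δ n (Finset.univ.gcd d + 1 - g) ((Int.gcd (g - 1) (Finset.univ.gcd d) : ℕ) : ℤ) := by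
  classical
  obtain ⟨e, he⟩ := exists_normal n d
  set D := Finset.univ.gcd d
  let Φ : ((Fin (n + 1) → ℤ) →+ ZMod δ) ≃+ ((Fin (n + 1) → ℤ) →+ ZMod δ) :=
    { toFun := fun φ => φ.comp e.symm.toLinearMap.toAddMonoidHom
      invFun := fun φ => φ.comp e.toLinearMap.toAddMonoidHom
      left_inv := fun φ => by ext; simp
      right_inv := fun φ => by ext; simp
      map_add' := fun φ ψ => rfl }
  let Ev : ((Fin (n + 1) → ℤ) →+ ZMod δ) ≃+ (Fin (n + 1) → ZMod δ) :=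
    (addMonoidHomLequivInt ℤ).toAddEquiv.trans ((Pi.basisFun ℤ (Fin (n + 1))).constr ℤ).symm.toAddEquiv
  have hEv : ∀ φ i, Ev φ i = φ (Pi.single i 1) := fun φ i => by
    simp [Ev]
  have himg : (Φ.trans Ev) '' genSet (n + 1) δ g d =
      (box δ n (D + 1 - g) ((Int.gcd (g - 1) D : ℕ) : ℤ) : Set _) := by
    rw [show ⇑(Φ.trans Ev) = Ev ∘ (fun φ => φ.comp e.symm.toLinearMap.toAddMonoidHom) from rfl,
      Set.image_comp, image_genSet, he]
    refine Set.Subset.antisymm ?_ fun v hv => ?_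
    · rintro _ ⟨φ, ⟨b, hb, h⟩, rfl⟩
      have hval : ∀ i : Fin (n + 1), Ev φ i =
          ((D * b (Pi.single 0 1) (Pi.single i 1) + (1 - g) * b (Pi.single i 1) (Pi.single i 1) : ℤ) : ZMod δ) := by
        intro i
        rw [hEv, h, show (Pi.single (0 : Fin (n + 1)) D : Fin (n + 1) → ℤ) = D • Pi.single 0 1 by
          rw [← Pi.single_smul, smul_eq_mul, mul_one], map_smul, LinearMap.smul_apply, smul_eq_mul]
      refine ⟨?_, fun i => ?_⟩
      · rw [hval, AddSubgroup.mem_zmultiples_iff]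
        exact ⟨b (Pi.single 0 1) (Pi.single 0 1), by rw [zsmul_eq_mul]; push_cast; ring⟩
      · rw [hval]
        obtain ⟨s, hs⟩ : ((Int.gcd (g - 1) D : ℕ) : ℤ) ∣ D * b (Pi.single 0 1) (Pi.single i.succ 1) +
            (1 - g) * b (Pi.single i.succ 1) (Pi.single i.succ 1) := by
          refine dvd_add ((Int.gcd_dvd_right _ _).mul_right _) (Dvd.dvd.mul_right ?_ _)
          rw [← neg_sub g 1]; exact (Int.gcd_dvd_left _ _).neg_right
        rw [hs, AddSubgroup.mem_zmultiples_iff]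
        exact ⟨s, by rw [zsmul_eq_mul]; push_cast; ring⟩
    · obtain ⟨t₀, ht₀⟩ := AddSubgroup.mem_zmultiples_iff.1 hv.1
      choose t ht using fun i => AddSubgroup.mem_zmultiples_iff.1 (hv.2 i)
      let U : Fin (n + 1) → ℤ := Fin.cons t₀ fun i => Int.gcdB (g - 1) D * t i
      let W : Fin (n + 1) → ℤ := Fin.cons t₀ fun i => -Int.gcdA (g - 1) D * t i
      let B : Matrix (Fin (n + 1)) (Fin (n + 1)) ℤ := Matrix.of fun i j =>
        if i = j then W i else if i = 0 then U j else if j = 0 then U i else 0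
      let b := Matrix.toBilin' B
      have hb : b.IsSymm := ⟨fun x y => by
        simp only [b, Matrix.toBilin'_apply]
        rw [Finset.sum_comm]
        refine Finset.sum_congr rfl fun i _ => Finset.sum_congr rfl fun j _ => ?_
        have : B j i = B i j := by
          simp only [B, Matrix.of_apply]
          rcases eq_or_ne i j with rfl | hij
          · rfl
          · simp [hij, hij.symm]
            split_ifs <;> simp_all
        rw [this]; ring⟩
      let φ : (Fin (n + 1) → ℤ) →+ ZMod δ :=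
        AddMonoidHom.mk' (fun x => ((b (Pi.single 0 D) x + (1 - g) * b x x : ℤ) : ZMod δ)) fun x y => by
          rw [← Int.cast_add, ZMod.intCast_eq_intCast_iff_dvd_sub]
          obtain ⟨s, hs⟩ := hδ
          refine ⟨s * b x y, ?_⟩
          simp only [map_add, LinearMap.add_apply, hb.eq y x]
          linear_combination (b x y) * hs
      refine ⟨φ, ⟨b, hb, fun x => rfl⟩, funext fun i => ?_⟩
      rw [hEv]
      have hbi : ∀ i j, b (Pi.single i 1) (Pi.single j 1) = B i j := fun i j => Matrix.toBilin'_single B i j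
      show ((b (Pi.single 0 D) (Pi.single i 1) + (1 - g) * b (Pi.single i 1) (Pi.single i 1) : ℤ) : ZMod δ) = v i
      rw [show (Pi.single (0 : Fin (n + 1)) D : Fin (n + 1) → ℤ) = D • Pi.single 0 1 by
          rw [← Pi.single_smul, smul_eq_mul, mul_one], map_smul, LinearMap.smul_apply, smul_eq_mul, hbi, hbi]
      refine Fin.cases ?_ (fun i => ?_) i
      · rw [← ht₀, zsmul_eq_mul]
        simp only [B, W, Matrix.of_apply, if_true, Fin.cons_zero]
        push_cast; ring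
      · rw [← ht i, zsmul_eq_mul, Int.gcd_eq_gcd_ab]
        simp only [B, W, U, Matrix.of_apply, if_true, Fin.cons_succ, if_neg (Fin.succ_ne_zero i).symm]
        push_cast; ring
  refine ⟨Φ.trans Ev, ?_⟩
  rw [AddMonoidHom.map_closure]
  exact (congrArg AddSubgroup.closure himg).trans (AddSubgroup.closure_eq _)

end Groth.LatticeWeight
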